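import Mathlib.RingTheory.Spectrum.Prime.Topology
import Mathlib.RingTheory.Spectrum.Prime.RingHom
import Mathlib.Topology.Connected.Clopen
import Mathlib.Tactic.LinearCombination

/-! Connected components of `Spec R` and idempotents. -/

set_option autoImplicit false

universe u

namespace Groth.Agent.SpecIdemLib

variable {R : Type u} [CommRing R]

/-- The idempotents lying in a prime. -/
def idem (p : PrimeSpectrum R) : Set R := {e : R | IsIdempotentElem e ∧ e ∈ p.asIdeal}

theorem exists_mul_eq (p : PrimeSpectrum R) {a : R} (ha : a ∈ Ideal.span (idem p)) :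
    ∃ e ∈ idem p, a * e = a := by
  induction ha using Submodule.span_induction with
  | mem x hx => exact ⟨x, hx, hx.1⟩
  | zero => exact ⟨0, ⟨IsIdempotentElem.zero, p.asIdeal.zero_mem⟩, mul_zero _⟩
  | add x y _ _ hx hy =>
    obtain ⟨e, ⟨he, hep⟩, hxe⟩ := hx
    obtain ⟨f, ⟨hf, hfp⟩, hyf⟩ := hy
    refine ⟨e + f - e * f, ⟨?_, Ideal.sub_mem _ (Ideal.add_mem _ hep hfp) (Ideal.mul_mem_left _ _ hfp)⟩, ?_⟩
    · show (e + f - e * f) * (e + f - e * f) = e + f - e * f
      have he' : e * e = e := he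
      have hf' : f * f = f := hf
      linear_combination (1 - 2 * f + f * f) * he' + (1 - e) * hf'
    · linear_combination (1 - f) * hxe + (1 - e) * hyf
  | smul c x _ hx =>
    obtain ⟨e, he, hxe⟩ := hx
    exact ⟨e, he, by rw [smul_eq_mul, mul_assoc, hxe]⟩

theorem idem_dichotomy (p : PrimeSpectrum R) (e : R) (he : IsIdempotentElem e) :
    e ∈ Ideal.span (idem p) ∨ 1 - e ∈ Ideal.span (idem p) := by
  by_cases h : e ∈ p.asIdeal
  · exact Or.inl (Ideal.subset_span ⟨he, h⟩)
  · refine Or.inr (Ideal.subset_span ⟨he.one_sub, ?_⟩)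
    exact (p.2.mem_or_mem (show e * (1 - e) ∈ p.asIdeal by rw [mul_sub, mul_one, he.eq, sub_self]; exact zero_mem _)).resolve_left h

theorem preconnected_quotient (p : PrimeSpectrum R) :
    PreconnectedSpace (PrimeSpectrum (R ⧸ Ideal.span (idem p))) := by
  rw [preconnectedSpace_iff_clopen]
  intro s hs
  obtain ⟨ε, hε, rfl⟩ := PrimeSpectrum.isClopen_iff.1 hs
  obtain ⟨a, rfl⟩ := Ideal.Quotient.mk_surjective ε
  have ha : a * a - a ∈ Ideal.span (idem p) := by
    rw [← Ideal.Quotient.eq_zero_iff_mem, map_sub, map_mul, hε.eq, sub_self]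
  obtain ⟨e, ⟨he, hep⟩, hae⟩ := exists_mul_eq p ha
  have hg : IsIdempotentElem (a * (1 - e)) := by
    show a * (1 - e) * (a * (1 - e)) = a * (1 - e)
    have he' : e * e = e := he
    linear_combination (a * a) * he' - hae
  have hea : Ideal.Quotient.mk (Ideal.span (idem p)) (a * (1 - e)) = Ideal.Quotient.mk _ a := by
    rw [Ideal.Quotient.eq]
    have : a * (1 - e) - a = -(a * e) := by ring
    rw [this]
    exact Submodule.neg_mem _ (Ideal.mul_mem_left _ _ (Ideal.subset_span ⟨he, hep⟩))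
  rcases idem_dichotomy p _ hg with h | h
  · left
    have : Ideal.Quotient.mk (Ideal.span (idem p)) a = 0 := by rw [← hea, Ideal.Quotient.eq_zero_iff_mem]; exact h
    simp [this]
  · right
    have : Ideal.Quotient.mk (Ideal.span (idem p)) a = 1 := by
      rw [← hea, eq_comm, ← map_one (Ideal.Quotient.mk _), Ideal.Quotient.eq]; exact h
    simp [this]

theorem connectedComponent_eq (p : PrimeSpectrum R) :
    connectedComponent p = PrimeSpectrum.zeroLocus (idem p) := by
  refine Set.Subset.antisymm ?_ ?_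
  · intro q hq e he
    have hc : IsClopen (PrimeSpectrum.zeroLocus ({e} : Set R)) :=
      PrimeSpectrum.isClopen_iff_zeroLocus.2 ⟨e, he.1, rfl⟩
    exact (hc.connectedComponent_subset (x := p) (by simpa using he.2) hq) rfl
  · haveI := preconnected_quotient p
    have hr : Set.range (PrimeSpectrum.comap (Ideal.Quotient.mk (Ideal.span (idem p)))) =
        PrimeSpectrum.zeroLocus (idem p) := by
      rw [range_comap_of_surjective _ _ Ideal.Quotient.mk_surjective, Ideal.mk_ker,
        PrimeSpectrum.zeroLocus_span]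
    refine IsPreconnected.subset_connectedComponent ?_ (fun e he => he.2)
    rw [← hr]
    exact isPreconnected_range (PrimeSpectrum.continuous_comap _)

theorem tfae_closed_idem (T : Set (PrimeSpectrum R)) :
    [IsClosed T ∧ ∀ x ∈ T, connectedComponent x ⊆ T,
      ∃ U : Set (Set (PrimeSpectrum R)), (∀ u ∈ U, IsClopen u) ∧ T = ⋂₀ U,
      ∃ E : Set R, (∀ e ∈ E, IsIdempotentElem e) ∧ T = PrimeSpectrum.zeroLocus E].TFAE := by
  tfae_have 2 → 1 := by
    rintro ⟨U, hU, rfl⟩
    refine ⟨isClosed_sInter fun u hu => (hU u hu).1, fun x hx y hy u hu => ?_⟩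
    exact (hU u hu).connectedComponent_subset (hx u hu) hy
  tfae_have 3 → 2 := by
    rintro ⟨E, hE, rfl⟩
    refine ⟨(fun e => PrimeSpectrum.zeroLocus {e}) '' E, ?_, ?_⟩
    · rintro _ ⟨e, he, rfl⟩
      exact PrimeSpectrum.isClopen_iff_zeroLocus.2 ⟨e, hE e he, rfl⟩
    · ext x
      simp [PrimeSpectrum.mem_zeroLocus, Set.subset_def]
  tfae_have 1 → 3 := by
    rintro ⟨hT, hcc⟩
    obtain ⟨J, rfl⟩ := (PrimeSpectrum.isClosed_iff_zeroLocus_ideal _).1 hT
    refine ⟨{e | IsIdempotentElem e ∧ PrimeSpectrum.zeroLocus (J : Set R) ⊆ PrimeSpectrum.zeroLocus {e}},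
      fun e he => he.1, Set.Subset.antisymm (fun q hq e he => he.2 hq rfl) fun x hx => ?_⟩
    by_contra hxT
    have htop : J ⊔ Ideal.span (idem x) = ⊤ := by
      rw [← PrimeSpectrum.zeroLocus_empty_iff_eq_top, PrimeSpectrum.zeroLocus_sup,
        PrimeSpectrum.zeroLocus_span, ← connectedComponent_eq, Set.eq_empty_iff_forall_notMem]
      rintro y ⟨hy1, hy2⟩
      refine hxT (hcc y hy1 ?_)
      rw [← _root_.connectedComponent_eq hy2]
      exact mem_connectedComponent
    obtain ⟨j, hj, a, ha, hja⟩ := Submodule.mem_sup.1 ((Ideal.eq_top_iff_one _).1 htop)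
    obtain ⟨e, he, hae⟩ := exists_mul_eq x ha
    have h1e : 1 - e ∈ J := by
      have : 1 - e = j * (1 - e) := by linear_combination (e - 1) * hja - hae
      rw [this]
      exact Ideal.mul_mem_right _ _ hj
    have h2 : 1 - e ∈ {e | IsIdempotentElem e ∧ PrimeSpectrum.zeroLocus (J : Set R) ⊆ PrimeSpectrum.zeroLocus {e}} :=
      ⟨he.1.one_sub, fun q hq => Set.singleton_subset_iff.2 (hq h1e)⟩
    have h3 : (1 : R) ∈ x.asIdeal := by
      have := x.asIdeal.add_mem (hx h2) he.2
      rwa [sub_add_cancel] at this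
    exact x.2.ne_top ((Ideal.eq_top_iff_one _).2 h3)
  tfae_finish

end Groth.Agent.SpecIdemLib
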